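import Cfsg.Agent.Lib.SL2.Trace
import Cfsg.Agent.Lib.SL2.Triangle
import Cfsg.Agent.Lib.SL2Elt.Sylow

/-! Two-generated solvable subgroups of `PSL₂(q)` in characteristic two and three. -/

set_option autoImplicit false

namespace H65

open Matrix MatrixGroups H64.SL2 Subgroup
open scoped commutatorElement

section Grp

variable {G : Type*} [Group G]

/-- `x` and `y` generate a solvable group -/
def Sol (x y : G) : Prop := Group.IsSolvable (closure ({x, y} : Set G))

theorem Sol.of_le {x y : G} {K : Subgroup G} (hK : Group.IsSolvable K) (hx : x ∈ K) (hy : y ∈ K) :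
    Sol x y :=
  Group.isSolvable_of_isSolvable_injective (inclusion_injective (show closure {x, y} ≤ K from
    (closure_le _).2 (Set.pair_subset hx hy)))

theorem Sol.of_mem {x y a b : G} (h : Sol a b) (hx : x ∈ closure ({a, b} : Set G))
    (hy : y ∈ closure ({a, b} : Set G)) : Sol x y := Sol.of_le h hx hy

theorem mem_left (x y : G) : x ∈ closure ({x, y} : Set G) := subset_closure (by simp)

theorem mem_right (x y : G) : y ∈ closure ({x, y} : Set G) := subset_closure (by simp)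

theorem Sol.symm {x y : G} (h : Sol x y) : Sol y x := h.of_mem (mem_right _ _) (mem_left _ _)

theorem Sol.map {H : Type*} [Group H] (f : G →* H) {x y : G} (h : Sol x y) : Sol (f x) (f y) := by
  have : Group.IsSolvable (closure ({x, y} : Set G)) := h
  exact Sol.of_le (K := (closure {x, y}).map f)
    (Group.isSolvable_of_surjective (f.subgroupMap_surjective _))
    (mem_map_of_mem _ (mem_left _ _)) (mem_map_of_mem _ (mem_right _ _))

theorem sol_of_comm (A : Subgroup G) (hA : ∀ a ∈ A, ∀ b ∈ A, a * b = b * a) {x y : G}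
    (hx : x ∈ normalizer (A : Set G)) (hy : y ∈ normalizer (A : Set G)) (h : ⁅x, y⁆ ∈ A) :
    Sol x y := by
  have h1 : closure {x, y} ≤ normalizer (A : Set G) := (closure_le _).2 (Set.pair_subset hx hy)
  have := normal_subgroupOf_of_le_normalizer h1
  refine (Group.isSolvable_iff_subgroup_quotient (A.subgroupOf (closure {x, y}))).2
    ⟨Group.isSolvable_of_comm fun a b => Subtype.ext (Subtype.ext (hA _ a.2 _ b.2)),
      Group.isSolvable_of_comm fun a b => ?_⟩
  obtain ⟨⟨a, ha⟩, rfl⟩ := QuotientGroup.mk_surjective a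
  obtain ⟨⟨b, hb⟩, rfl⟩ := QuotientGroup.mk_surjective b
  have h2 : Commute (QuotientGroup.mk (s := A.subgroupOf (closure {x, y})) ⟨x, mem_left x y⟩)
      (QuotientGroup.mk ⟨y, mem_right x y⟩) := by
    rw [← commutatorElement_eq_one_iff_commute]
    exact (QuotientGroup.eq_one_iff ⁅(⟨x, mem_left x y⟩ : closure {x, y}),
      (⟨y, mem_right x y⟩ : closure {x, y})⁆).2 h
  induction ha, hb using closure_induction₂ with
  | mem a b ha hb =>
    rcases ha with rfl | rfl <;> rcases hb with rfl | rfl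
    exacts [rfl, h2, h2.symm, rfl]
  | one_left => exact (one_mul _).trans (mul_one _).symm
  | one_right => exact (mul_one _).trans (one_mul _).symm
  | mul_left a b c _ _ _ h3 h4 => exact Commute.mul_left h3 h4
  | mul_right a b c _ _ _ h3 h4 => exact Commute.mul_right h3 h4
  | inv_left a b _ _ h3 => exact Commute.inv_left h3
  | inv_right a b _ _ h3 => exact Commute.inv_right h3

theorem mem_normalizer_zpowers {g x : G} (h : g * x * g⁻¹ = x⁻¹) :
    g ∈ normalizer (zpowers x : Set G) := by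
  have h' : g⁻¹ * x * g = x⁻¹ :=
    calc g⁻¹ * x * g = g⁻¹ * (g * x * g⁻¹)⁻¹ * g := by rw [h, inv_inv]
      _ = x⁻¹ := by group
  refine mem_normalizer_iff.2 fun a => ⟨?_, ?_⟩
  · rintro ⟨k, rfl⟩
    exact ⟨-k, by rw [← conj_zpow, h]; simp⟩
  · rintro ⟨k, hk⟩
    refine ⟨-k, ?_⟩
    rw [show a = g⁻¹ * x ^ k * g⁻¹⁻¹ by simp only at hk; rw [hk]; group, ← conj_zpow, inv_inv, h']
    simp

theorem sol_of_inverts {x y : G} (h : y * x * y⁻¹ = x⁻¹) : Sol x y := by
  refine sol_of_comm (zpowers x) ?_ (le_normalizer (mem_zpowers x)) (mem_normalizer_zpowers h) ?_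
  · rintro _ ⟨a, rfl⟩ _ ⟨b, rfl⟩
    exact zpow_mul_comm x a b
  · rw [commutatorElement_def, mul_assoc, mul_assoc, ← mul_assoc y, ← inv_inv (_ * y⁻¹),
      show (y * x⁻¹ * y⁻¹)⁻¹ = y * x * y⁻¹ by group, h, inv_inv]
    exact mul_mem (mem_zpowers x) (mem_zpowers x)

theorem sol_of_sq {x y : G} (hx : x ^ 2 = 1) (hy : y ^ 2 = 1) : Sol x y := by
  have h : y * (x * y) * y⁻¹ = (x * y)⁻¹ := by
    rw [sq] at hx hy
    rw [_root_.mul_inv_rev, inv_eq_of_mul_eq_one_right hx, inv_eq_of_mul_eq_one_right hy,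
      mul_assoc, mul_assoc, hy, mul_one]
  refine (sol_of_inverts h).of_mem ?_ (mem_right _ _)
  simpa using mul_mem (mem_left (x * y) y) (inv_mem (mem_right (x * y) y))

theorem sol_of_233 {x y : G} (hx : x ^ 2 = 1) (hy : y ^ 3 = 1) (h : (x * y) ^ 3 = 1) : Sol x y := by
  obtain ⟨f, rfl, rfl⟩ := H29.Tri.exists_hom3 hx hy h
  let V : Subgroup (alternatingGroup (Fin 4)) :=
    { carrier := {g | g * g = 1}
      mul_mem' := fun {a b} => by revert a b; simp only [Set.mem_ofPred_eq]; decide +kernel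
      one_mem' := mul_one _
      inv_mem' := fun {a} h => by rw [Set.mem_ofPred_eq, ← _root_.mul_inv_rev, h, inv_one] }
  have hV : ∀ g, g ∈ V ↔ g * g = 1 := fun _ => Iff.rfl
  refine Sol.map f (sol_of_comm V ?_ (mem_normalizer_iff.2 ?_) (mem_normalizer_iff.2 ?_) ?_) <;>
    simp only [hV] <;> decide +kernel

theorem card_sol_conj {x x' : G} (h : IsConj x x') :
    Nat.card {y // Sol x y} = Nat.card {y // Sol x' y} := by
  obtain ⟨c, rfl⟩ := isConj_iff.1 h
  refine Nat.card_congr ((MulAut.conj c).toEquiv.subtypeEquiv fun y =>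
    ⟨Sol.map (MulAut.conj c).toMonoidHom, fun h => ?_⟩)
  simpa [mul_assoc] using h.map (MulAut.conj c).symm.toMonoidHom

theorem card_comap {H : Type*} [Group H] {f : G →* H} (hf : Function.Surjective f) (P : H → Prop) :
    Nat.card {y // P (f y)} = Nat.card f.ker * Nat.card {y // P y} := by
  rw [← Nat.card_prod]
  refine Nat.card_congr ((Equiv.subtypeEquivRight fun y => ?_).trans
    ((QuotientGroup.preimageMkEquivSubgroupProdSet f.ker
      {z | P (QuotientGroup.quotientKerEquivOfSurjective f hf z)}).trans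
      ((Equiv.refl _).prodCongr ((QuotientGroup.quotientKerEquivOfSurjective f hf).toEquiv.subtypeEquiv
        fun _ => Iff.rfl))))
  rfl

end Grp

variable {F : Type*} [Field F]

/-- the Fricke relation -/
def Red (x y : SL(2, F)) : Prop :=
  tr x ^ 2 + tr y ^ 2 + tr (x * y) ^ 2 - tr x * tr y * tr (x * y) = 4

theorem red_of_fix {x y : SL(2, F)} {z : H29.P1 (AlgebraicClosure F)}
    (hx : H29.iota F (proj x) • z = z) (hy : H29.iota F (proj y) • z = z) : Red x y := by
  obtain ⟨v, hv, rfl⟩ : ∃ v hv, z = Projectivization.mk _ v hv := ⟨_, _, z.mk_rep.symm⟩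
  obtain ⟨a, ha⟩ := (H29.pgl_fix_iff _ hv).1 hx
  obtain ⟨b, hb⟩ := (H29.pgl_fix_iff _ hv).1 hy
  have hab : (GeneralLinearGroup.map (algebraMap F (AlgebraicClosure F))
      (SpecialLinearGroup.toGL (x * y))).val *ᵥ v = (a * b) • v := by
    rw [map_mul, map_mul, Units.val_mul, ← mulVec_mulVec, hb, mulVec_smul, ha, smul_smul, mul_comm]
  have h1 := H29.char_eq_of_eigen hv ha
  have h2 := H29.char_eq_of_eigen hv hb
  have h3 := H29.char_eq_of_eigen hv hab
  have h4 := H29.eigen_ne_zero hv ha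
  have h5 := H29.eigen_ne_zero hv hb
  rw [H29.trace_map_toGL, H29.det_map_toGL, ← tr_eq_trace] at h1 h2 h3
  apply (algebraMap F (AlgebraicClosure F)).injective
  simp only [map_sub, map_add, map_pow, map_mul, map_ofNat]
  rw [show algebraMap F _ (tr x) = a + a⁻¹ by field_simp; linear_combination -h1,
    show algebraMap F _ (tr y) = b + b⁻¹ by field_simp; linear_combination -h2,
    show algebraMap F _ (tr (x * y)) = a * b + (a * b)⁻¹ by field_simp; linear_combination -h3]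
  field_simp
  ring

theorem tr_eq_zero_of_sq {g : SL(2, F)} (h : proj g * proj g = 1) (h1 : proj g ≠ 1) : tr g = 0 :=
  (mem_center_or_tr_eq_zero_of_sq (proj_eq_one_iff.1 (by rwa [map_mul]))).resolve_left
    fun h => h1 (proj_eq_one_iff.2 h)

theorem not_isSolvable_psl [Finite F] (h : 4 ≤ Nat.card F) : ¬ Group.IsSolvable PSL(2, F) := by
  intro hs
  have := H10.isSimpleGroup_PSL_fin (F := F) 2 le_rfl fun _ => h
  refine (Group.IsSolvable.commutator_lt_top_of_nontrivial PSL(2, F)).ne ?_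
  rw [_root_.commutator_def, ← map_top_of_surjective _ proj_surjective, ← map_commutator,
    ← _root_.commutator_def, H10.commutator_SL_fin_eq_top 2 fun _ => h]

theorem sol_cases [Finite F] (p : ℕ) [hp : Fact p.Prime] [CharP F p] (hp3 : p = 2 ∨ p = 3)
    {x y : SL(2, F)} (h : Sol (proj x) (proj y)) : Red x y ∨
      (tr x = 0 ∧ tr y = 0 ∨ tr x = 0 ∧ tr (x * y) = 0 ∨ tr y = 0 ∧ tr (x * y) = 0) ∨
      p = 3 ∧ ∀ g, g = x ∨ g = y ∨ g = x * y → (tr g ^ 2) ^ 3 = tr g ^ 2 := by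
  have hL : CharP (AlgebraicClosure F) p := (Algebra.charP_iff F _ p).1 inferInstance
  have hs : Group.IsSolvable (closure {proj x, proj y}) := h
  have hx := mem_left (proj x) (proj y)
  have hy := mem_right (proj x) (proj y)
  generalize closure {proj x, proj y} = H at hs hx hy
  let e := H.equivMapOfInjective _ (H29.iota_injective F)
  have hfin : Finite (H.map (H29.iota F)) := Finite.of_equiv _ e.toEquiv
  have hs' : Group.IsSolvable (H.map (H29.iota F)) := Group.isSolvable_of_surjective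
    (f := e.toMonoidHom) e.surjective
  have hcyc : ∀ r : H, (⟨_, hx⟩ : H) ∈ zpowers r → (⟨_, hy⟩ : H) ∈ zpowers r → Red x y := by
    rintro r ⟨a, ha⟩ ⟨b, hb⟩
    obtain ⟨z, hz⟩ := (H29.mob_pgl p).fix (H29.iota F r)
    refine red_of_fix (z := z) ?_ ?_
    · rw [← show r.1 ^ a = proj x from congrArg Subtype.val ha, map_zpow]
      exact zpow_mem (show _ ∈ MulAction.stabilizer _ z from hz) a
    · rw [← show r.1 ^ b = proj y from congrArg Subtype.val hb, map_zpow]
      exact zpow_mem (show _ ∈ MulAction.stabilizer _ z from hz) b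
  have hdih : ∀ k, H ≃* DihedralGroup k → Red x y ∨
      (tr x = 0 ∧ tr y = 0 ∨ tr x = 0 ∧ tr (x * y) = 0 ∨ tr y = 0 ∧ tr (x * y) = 0) := by
    intro k f
    have h1 : ∀ g (hg : proj g ∈ H) (i : ZMod k), f ⟨_, hg⟩ = .sr i → tr g = 0 := fun g hg i hi =>
      tr_eq_zero_of_sq (congrArg Subtype.val (f.injective (a₁ := ⟨_, hg⟩ * ⟨_, hg⟩) (a₂ := 1)
        (by rw [map_mul, hi, map_one]; simp))) fun h => by
          rw [show (⟨_, hg⟩ : H) = 1 from Subtype.ext h, map_one] at hi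
          exact absurd hi (by rw [DihedralGroup.one_def]; exact nofun)
    have h2 : ∀ (g : H) (i : ZMod k), f g = .r i → g ∈ zpowers (f.symm (.r 1)) := fun g i hi => by
      obtain ⟨j, rfl⟩ := ZMod.intCast_surjective i
      exact ⟨j, f.injective (by simp [hi])⟩
    have h3 : f ⟨proj (x * y), by rw [map_mul]; exact mul_mem hx hy⟩ = f ⟨_, hx⟩ * f ⟨_, hy⟩ :=
      map_mul f ⟨_, hx⟩ ⟨_, hy⟩
    rcases ha : f ⟨_, hx⟩ with i | i <;> rcases hb : f ⟨_, hy⟩ with j | j <;> rw [ha, hb] at h3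
    · exact Or.inl (hcyc _ (h2 _ _ ha) (h2 _ _ hb))
    · exact Or.inr (Or.inr (Or.inr ⟨h1 _ _ _ hb, h1 _ _ _ h3⟩))
    · exact Or.inr (Or.inr (Or.inl ⟨h1 _ _ _ ha, h1 _ _ _ h3⟩))
    · exact Or.inr (Or.inl ⟨h1 _ _ _ ha, h1 _ _ _ hb⟩)
  by_cases hpH : p ∣ Nat.card H
  · obtain ⟨g, hg⟩ := exists_prime_orderOf_dvd_card' p hpH
    have hg1 : H29.iota F g ≠ 1 := fun h => by
      rw [show g = 1 from Subtype.ext (H29.iota_injective F (by simpa using h)), orderOf_one] at hg
      exact hp.out.one_lt.ne hg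
    have hgp : H29.iota F g ^ p = 1 := by
      rw [← map_pow, ← hg, ← Subgroup.coe_pow, pow_orderOf_eq_one, Subgroup.coe_one, map_one]
    obtain ⟨z, hz⟩ := (H29.mob_pgl p).fix (H29.iota F g)
    rcases H29.dickson_wild p (H.map (H29.iota F)) (g := H29.iota F g) ⟨g, g.2, rfl⟩ hg1 hgp hz with
      h | ⟨-, k, -, -, -, ⟨e'⟩⟩ | ⟨-, ⟨e'⟩⟩ | ⟨k, c, hk, hk3, h⟩
    · exact Or.inl (red_of_fix (h _ ⟨_, hx, rfl⟩) (h _ ⟨_, hy, rfl⟩))
    · exact (hdih k (e.trans e')).imp_right Or.inl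
    · have := Group.isSolvable_of_surjective (f := e'.toMonoidHom) e'.surjective
      exact absurd (IsSimpleGroup.comm_iff_isSolvable.2 this) (by decide)
    have h1 : ((ProjGenLinGroup.map k.subtype).comp ProjectiveSpecialLinearGroup.toPGL).range ≤
        (H.map (H29.iota F)).map (MulAut.conj c).toMonoidHom := by
      rcases h with h | ⟨-, h⟩
      · rw [h, MonoidHom.range_comp]; exact map_le_range _ _
      · rw [h]
    have h2 : Nat.card k = 3 := by
      by_contra h2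
      have : Group.IsSolvable ((H.map (H29.iota F)).map (MulAut.conj c).toMonoidHom) :=
        Group.isSolvable_of_surjective (MonoidHom.subgroupMap_surjective _ _)
      refine not_isSolvable_psl (F := k) (by omega) (Group.isSolvable_of_isSolvable_injective
        (f := (inclusion h1).comp (MonoidHom.rangeRestrict _)) ((inclusion_injective h1).comp ?_))
      exact MonoidHom.rangeRestrict_injective_iff.2 ((H29.pgl_map_injective k.subtype).comp
        ProjectiveSpecialLinearGroup.toPGL_injective)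
    have := Fintype.ofFinite k
    rw [Nat.card_eq_fintype_card] at h2
    refine Or.inr (Or.inr ⟨?_, fun g hg => ?_⟩)
    · obtain ⟨n, -, hn⟩ := FiniteField.card k p
      exact (Nat.prime_dvd_prime_iff_eq hp.out Nat.prime_three).1
        (h2 ▸ hn ▸ dvd_pow_self p n.ne_zero)
    have h3 : proj g ∈ H := by
      rcases hg with rfl | rfl | rfl
      exacts [hx, hy, map_mul proj x y ▸ mul_mem hx hy]
    obtain ⟨γ, hγ⟩ : c * H29.iota F (proj g) * c⁻¹ ∈ (ProjGenLinGroup.map k.subtype).range := by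
      have h4 : c * H29.iota F (proj g) * c⁻¹ ∈ (H.map (H29.iota F)).map
        (MulAut.conj c).toMonoidHom := ⟨_, ⟨_, h3, rfl⟩, rfl⟩
      rcases h with h | ⟨-, h⟩
      · exact h ▸ h4
      · rw [h, MonoidHom.range_comp] at h4; exact map_le_range _ _ h4
    have h4 := congrArg H29.tau hγ
    rw [H29.tau_map, H29.tau_conj, show H29.tau (H29.iota F (proj g)) = _ from H29.tau_iota g,
      ← tr_eq_trace] at h4
    apply (algebraMap F (AlgebraicClosure F)).injective
    rw [map_pow, ← h4, ← map_pow, ← h2, FiniteField.pow_card]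
  have h1 : ∀ {T : Type} [Group T], H.map (H29.iota F) ≃* T → ¬ 6 ∣ Nat.card T := fun f h =>
    hpH (by
      rw [Nat.card_congr (e.trans f).toEquiv]
      exact Dvd.dvd.trans (by rcases hp3 with rfl | rfl <;> decide) h)
  rcases H29.dickson_tame p (H.map (H29.iota F)) (by rwa [← Nat.card_congr e.toEquiv]) with
    h | ⟨k, -, -, ⟨e'⟩⟩ | ⟨⟨e'⟩⟩ | ⟨⟨e'⟩⟩ | ⟨⟨e'⟩⟩
  · obtain ⟨r, hr⟩ := (isCyclic_of_surjective e.symm e.symm.surjective).exists_generator
    exact Or.inl (hcyc r (hr _) (hr _))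
  · exact (hdih k (e.trans e')).imp_right Or.inl
  · exact absurd (by rw [H29.card_alt_four]; decide) (h1 e')
  · exact absurd (by rw [H29.card_perm_four]; decide) (h1 e')
  · exact absurd (by rw [H29.card_alt_five]; decide) (h1 e')

theorem sol_of_upper {x y : SL(2, F)} (hx : x 1 0 = 0) (hy : y 1 0 = 0) : Sol x y := by
  let U : Subgroup SL(2, F) :=
    { carrier := {g | g 1 0 = 0 ∧ g 0 0 = 1 ∧ g 1 1 = 1}
      mul_mem' := fun {a b} ha hb => by simp [ent, ha.1, ha.2.1, ha.2.2, hb.1, hb.2.1, hb.2.2]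
      one_mem' := by simp
      inv_mem' := fun {a} ha => by simp [ent, ha.1, ha.2.1, ha.2.2] }
  have hU : ∀ g, g ∈ U ↔ g 1 0 = 0 ∧ g 0 0 = 1 ∧ g 1 1 = 1 := fun _ => Iff.rfl
  have h1 : ∀ g : SL(2, F), g 1 0 = 0 → ∀ a ∈ U, g * a * g⁻¹ ∈ U := fun g hg a ha => by
    have := det_eq g
    simp only [hU, ent, hg, ha.1, ha.2.1, ha.2.2] at this ⊢
    refine ⟨by ring, ?_, ?_⟩ <;> linear_combination this
  have h2 : ∀ g : SL(2, F), g 1 0 = 0 → g ∈ normalizer (U : Set SL(2, F)) := fun g hg =>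
    mem_normalizer_iff.2 fun a => ⟨h1 g hg a, fun h => by
      simpa [mul_assoc] using h1 g⁻¹ (by simp [ent, hg]) _ h⟩
  refine sol_of_comm U (fun a ha b hb => ?_) (h2 x hx) (h2 y hy) ?_
  · simp [ent, ha.1, ha.2.1, ha.2.2, hb.1, hb.2.1, hb.2.2, add_comm]
  · have h3 := det_eq x
    have h4 := det_eq y
    simp only [hU, commutatorElement_def, ent, hx, hy] at h3 h4 ⊢
    refine ⟨by ring, ?_, ?_⟩ <;> linear_combination (y 0 0 * y 1 1) * h3 + h4

theorem sol_of_lower {x y : SL(2, F)} (hx : x 0 1 = 0) (hy : y 0 1 = 0) : Sol x y := by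
  have h := (sol_of_upper (x := comp 0 * x * (comp 0)⁻¹) (y := comp 0 * y * (comp 0)⁻¹)
    (by simp [H64.SL2.comp, ent, hx]) (by simp [H64.SL2.comp, ent, hy])).map (MulAut.conj (comp 0)).symm.toMonoidHom
  simpa [mul_assoc] using h

theorem proj_sq {g : SL(2, F)} (h : tr g = 0) : proj g ^ 2 = 1 :=
  H29.psl_sq_eq_one_iff.2 (Or.inl (tr_eq_trace g ▸ h))

theorem proj_cube {g : SL(2, F)} (h : tr g ^ 2 = 1) : proj g ^ 3 = 1 :=
  H29.psl_pow_three_eq_one_iff.2 (Or.inl (tr_eq_trace g ▸ sub_eq_zero.2 h))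

theorem sol_of_tr {x y : SL(2, F)}
    (h : tr x = 0 ∧ tr y = 0 ∨ tr x = 0 ∧ tr (x * y) = 0 ∨ tr y = 0 ∧ tr (x * y) = 0) :
    Sol (proj x) (proj y) := by
  rcases h with ⟨h, h'⟩ | ⟨h, h'⟩ | ⟨h, h'⟩
  · exact sol_of_sq (proj_sq h) (proj_sq h')
  · refine (sol_of_sq (proj_sq h) (proj_sq h')).of_mem (mem_left _ _) ?_
    simpa using mul_mem (inv_mem (mem_left (proj x) (proj (x * y)))) (mem_right _ _)
  · refine (sol_of_sq (proj_sq h) (proj_sq h')).of_mem ?_ (mem_left _ _)
    simpa using mul_mem (mem_right (proj y) (proj (x * y))) (inv_mem (mem_left _ _))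

theorem tr_mul_inv (x y : SL(2, F)) : tr (x * y⁻¹) = tr x * tr y - tr (x * y) := by
  simp only [ent]; ring

variable [Fintype F]

theorem card_sl_cases (Q : SL(2, F) → Prop) (h : ∀ y, y 1 0 = 0 → Q y) (R : F × F × F → Prop)
    (hR : ∀ y, y 1 0 ≠ 0 → (Q y ↔ R (y 0 0, y 1 0, y 1 1))) :
    Nat.card {y // Q y} = Fintype.card F * (Fintype.card F - 1) +
      Nat.card {v : F × F × F // v.2.1 ≠ 0 ∧ R v} := by
  classical
  rw [← Fintype.card_units, ← Fintype.card_prod, ← Nat.card_eq_fintype_card, ← Nat.card_sum]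
  refine (Nat.card_eq_of_bijective (Sum.elim
    (fun v : F × Fˣ => (⟨mk v.2 v.1 0 (v.2⁻¹ : Fˣ) (by simp), h _ rfl⟩ : {y // Q y}))
    fun v : {v : F × F × F // v.2.1 ≠ 0 ∧ R v} => ⟨mk v.1.1 ((v.1.1 * v.1.2.2 - 1) / v.1.2.1)
      v.1.2.1 v.1.2.2 (by rw [div_mul_cancel₀ _ v.2.1]; ring), (hR _ v.2.1).2 v.2.2⟩) ⟨?_, ?_⟩).symm
  · rintro (a | a) (b | b) hab <;> simp only [Sum.elim_inl, Sum.elim_inr, Subtype.mk.injEq, ent] at hab
    · exact congrArg _ (Prod.ext hab.2.1 (Units.ext hab.1))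
    · exact absurd hab.2.2.1.symm b.2.1
    · exact absurd hab.2.2.1 a.2.1
    · exact congrArg _ (Subtype.ext (Prod.ext hab.1 (Prod.ext hab.2.2.1 hab.2.2.2)))
  · rintro ⟨y, hy⟩
    have h1 := det_eq y
    by_cases h2 : y 1 0 = 0
    · rw [h2, mul_zero, sub_zero] at h1
      exact ⟨.inl (y 0 1, Units.mkOfMulEqOne _ _ h1), Subtype.ext (ext' rfl rfl h2.symm rfl)⟩
    · refine ⟨.inr ⟨(y 0 0, y 1 0, y 1 1), h2, (hR y h2).1 hy⟩, Subtype.ext (ext' rfl ?_ rfl rfl)⟩
      exact (div_eq_iff h2).2 (by linear_combination h1)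

omit [Fintype F] in
theorem card_sol_proj (x : SL(2, F)) : Nat.card {y // Sol (proj x) (proj y)} =
    Nat.card (center SL(2, F)) * Nat.card {y // Sol (proj x) y} := by
  rw [card_comap proj_surjective, QuotientGroup.ker_mk']

variable (p : ℕ) [hp : Fact p.Prime] [CharP F p] (hp3 : p = 2 ∨ p = 3)

include hp3

theorem card_sol_split {x : SL(2, F)} (h : tr x ^ 2 ≠ 4) (hs : Split x) (h0 : tr x ≠ 0)
    (h3 : p = 3 → (tr x ^ 2) ^ 3 ≠ tr x ^ 2) : Nat.card {y // Sol (proj x) (proj y)} =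
      2 * (Fintype.card F * (Fintype.card F - 1)) := by
  classical
  obtain ⟨a, ha, hc⟩ := exists_isConj_diagHom h hs
  rw [card_sol_proj, card_sol_conj (proj.map_isConj hc), ← card_sol_proj]
  rw [tr_eq_of_isConj hc] at h h0 h3
  have h1 : (a : F) - (a⁻¹ : Fˣ) ≠ 0 := fun e => ha (by
    linear_combination (a : F) * e + a.mul_inv)
  rw [card_sl_cases _ (fun y hy => (sol_of_upper rfl hy).map proj)
    (fun v => v.1 * v.2.2 = 1 ∨ v.1 = 0 ∧ v.2.2 = 0) fun y hy => ?_, two_mul, Nat.add_right_inj,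
    ← Fintype.card_units, ← Fintype.card_prod, ← Nat.card_eq_fintype_card]
  · refine (Nat.card_eq_of_bijective (fun v : F × Fˣ => ⟨(v.1, v.2, v.1⁻¹), v.2.ne_zero,
      by by_cases h : v.1 = 0 <;> simp [h]⟩) ⟨fun a b h => ?_, ?_⟩).symm
    · simp only [Subtype.mk.injEq, Prod.mk.injEq] at h
      exact Prod.ext h.1 (Units.ext h.2.1)
    · rintro ⟨⟨a, c, d⟩, h1, h2⟩
      refine ⟨(a, Units.mk0 c h1), Subtype.ext (Prod.ext rfl (Prod.ext rfl ?_))⟩
      change a⁻¹ = d
      rcases h2 with h2 | ⟨h2, h3⟩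
      exacts [inv_eq_of_mul_eq_one_right h2, by rw [show a = 0 from h2, _root_.inv_zero, ← h3]]
  have h4 := det_eq y
  constructor
  · intro h5
    rcases sol_cases p hp3 h5 with h6 | (h6 | h6 | h6) | ⟨h6, h7⟩
    · left
      simp only [Red, diagHom_apply, ent] at h6
      apply mul_left_cancel₀ (pow_ne_zero 2 h1)
      linear_combination -h6 + (2 * y 0 0 * y 1 1 - (y 0 0 + y 1 1) ^ 2 - 4 +
        2 * (y 0 0 * y 1 1 - 1) + 10 - 4 * y 0 0 * y 1 1) * a.mul_inv
    · exact absurd h6.1 h0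
    · exact absurd h6.1 h0
    · right
      simp only [diagHom_apply, ent] at h6
      have : y 0 0 = 0 := mul_left_cancel₀ h1 (by
        linear_combination h6.2 - ((a⁻¹ : Fˣ) : F) * h6.1)
      exact ⟨this, by linear_combination h6.1 - this⟩
    · exact absurd (h7 _ (Or.inl rfl)) (h3 h6)
  · rintro (h5 | ⟨h5, h6⟩)
    · exact (sol_of_lower rfl ((mul_eq_zero.1 (by linear_combination h5 - h4)).resolve_right
        hy)).map proj
    · exact sol_of_tr (Or.inr (Or.inr (by simp_all [diagHom_apply, ent])))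

omit [Fintype F] hp3 in
theorem commute_of_red {x y : SL(2, F)} (hs : ¬ Split x) (h : Red x y) : y * x = x * y := by
  have hx := det_eq x
  have hy := det_eq y
  simp only [Red, ent] at h ⊢
  obtain ⟨m, hm⟩ : ∃ m, m = x 0 1 * y 1 0 - y 0 1 * x 1 0 := ⟨_, rfl⟩
  obtain ⟨n, hn⟩ : ∃ n, n = x 0 0 * y 0 1 + x 0 1 * y 1 1 - y 0 0 * x 0 1 - y 0 1 * x 1 1 := ⟨_, rfl⟩
  obtain ⟨k, hk⟩ : ∃ k, k = x 1 0 * y 0 0 + x 1 1 * y 1 0 - y 1 0 * x 0 0 - y 1 1 * x 1 0 := ⟨_, rfl⟩
  have h1 : m ^ 2 + n * k = 0 := by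
    rw [hm, hn, hk]
    linear_combination h + ((y 0 0 + y 1 1) ^ 2 - 4 * (y 0 0 * y 1 1 - y 0 1 * y 1 0)) * hx +
      ((x 0 0 + x 1 1) ^ 2 - 4) * hy
  have h2 : x 0 0 * m + x 0 1 * k + x 1 0 * n - x 1 1 * m = 0 := by rw [hm, hn, hk]; ring
  have h3 : n = 0 := by
    by_contra h3
    refine hs ⟨x 0 0 - x 0 1 * m / n, ?_⟩
    simp only [ent]
    field_simp
    linear_combination (-n ^ 2) * hx + x 0 1 ^ 2 * h1 - x 0 1 * n * h2
  have h4 : m = 0 := by simpa [h3] using h1
  have h5 : k = 0 := by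
    by_contra h5
    have h6 : x 0 1 = 0 := by simpa [h3, h4, h5] using h2
    exact hs ⟨x 0 0, by simp only [ent]; linear_combination -hx - x 1 0 * h6⟩
  exact ⟨by linear_combination hm - h4, by linear_combination hn - h3,
    by linear_combination hk - h5, by linear_combination h4 - hm⟩

theorem card_sol_nonsplit {x : SL(2, F)} (hs : ¬ Split x) (h0 : tr x ≠ 0)
    (h3 : p = 3 → (tr x ^ 2) ^ 3 ≠ tr x ^ 2) : Nat.card {y // Sol (proj x) (proj y)} =
      2 * (Fintype.card F + 1) := by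
  have h := tr_sq_ne_four_of_not_split hs
  rw [← Nat.card_eq_fintype_card, ← card_centralizer_of_not_split hs,
    ← card_normalizer_centralizer h]
  refine Nat.card_congr (Equiv.subtypeEquivRight fun y => ?_)
  rw [mem_normalizer_centralizer_iff h, mem_centralizer_singleton_iff]
  constructor
  · intro h5
    rcases sol_cases p hp3 h5 with h6 | (h6 | h6 | h6) | ⟨h6, h7⟩
    · exact Or.inl (commute_of_red hs h6)
    · exact absurd h6.1 h0
    · exact absurd h6.1 h0
    · right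
      have h7 := (mul_self_eq_neg_one_of_tr h6.2).trans (mul_self_eq_neg_one_of_tr h6.1).symm
      calc y * x * y⁻¹ = x⁻¹ * (x * y * (x * y)) * y⁻¹ * y⁻¹ := by group
        _ = x⁻¹ := by
          rw [mul_self_eq_neg_one_of_tr h6.2, mul_assoc, ← _root_.mul_inv_rev,
            mul_self_eq_neg_one_of_tr h6.1]
          simp
    · exact absurd (h7 _ (Or.inl rfl)) (h3 h6)
  · rintro (h5 | h5)
    · exact (Sol.of_le (K := centralizer {x}) (Group.isSolvable_of_comm fun a b => Subtype.ext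
        (commute_of_mem_centralizer (not_mem_center_of_tr h) a.2 b.2))
        (mem_centralizer_singleton_iff.2 rfl) (mem_centralizer_singleton_iff.2 h5)).map proj
    · exact (sol_of_inverts h5).map proj

omit hp hp3 in
theorem card_sol_unip {e : F} (he : e ≠ 0) (R : F × F → Prop) (hR : ∀ v, R v → v.1 ≠ v.2)
    (h : ∀ y, y 1 0 ≠ 0 → (Sol (proj (mk 1 e 0 1 (by simp))) (proj y) ↔
      R (tr y, tr (mk 1 e 0 1 (by simp) * y)))) :
    Nat.card {y // Sol (proj (mk 1 e 0 1 (by simp))) (proj y)} =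
      Fintype.card F * (Fintype.card F - 1) + Fintype.card F * Nat.card {v // R v} := by
  rw [card_sl_cases _ (fun y hy => (sol_of_upper rfl hy).map proj)
    (fun v => R (v.1 + v.2.2, v.1 + v.2.2 + e * v.2.1)) fun y hy => ?_, Nat.add_right_inj,
    ← Nat.card_eq_fintype_card, ← Nat.card_prod]
  · refine (Nat.card_eq_of_bijective (fun v : F × {v // R v} =>
      ⟨(v.1, (v.2.1.2 - v.2.1.1) / e, v.2.1.1 - v.1),
        div_ne_zero (sub_ne_zero.2 (hR _ v.2.2).symm) he,
        by simpa [mul_div_cancel₀ _ he] using v.2.2⟩) ⟨fun a b h => ?_, ?_⟩).symm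
    · simp only [Subtype.mk.injEq, Prod.mk.injEq, div_left_inj' he] at h
      refine Prod.ext h.1 (Subtype.ext (Prod.ext ?_ ?_))
      · linear_combination h.2.2 + h.1
      · linear_combination h.2.1 + h.2.2 + h.1
    · rintro ⟨⟨a, c, d⟩, h1, h2⟩
      exact ⟨(a, ⟨_, h2⟩), by simp [he]⟩
  rw [h y hy]
  simp only [ent]
  ring_nf

omit hp hp3 in
theorem orderOf_proj_dvd_sub {g : SL(2, F)} (h : tr g ^ 2 ≠ 4) (hs : Split g) :
    orderOf (proj g) ∣ Fintype.card F - 1 :=
  orderOf_dvd_of_pow_eq_one (by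
    rw [← map_pow, ← Nat.card_eq_fintype_card, pow_eq_one_of_split h hs, map_one])

omit hp hp3 in
theorem orderOf_proj_dvd_add {g : SL(2, F)} (hs : ¬ Split g) :
    orderOf (proj g) ∣ Fintype.card F + 1 :=
  orderOf_dvd_of_pow_eq_one (by
    rw [← map_pow, ← Nat.card_eq_fintype_card, pow_eq_one_of_not_split hs, map_one])

omit hp hp3 in
theorem dvd_two_of_dvd {m : ℕ} (h : m ∣ Fintype.card F - 1) (h' : m ∣ Fintype.card F + 1) :
    m ∣ 2 := by
  have := Nat.dvd_sub h' h
  rwa [show Fintype.card F + 1 - (Fintype.card F - 1) = 2 by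
    have := Fintype.card_pos (α := F); omega] at this

end H65
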